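import Mathlib
import Groth.Agent.UnitRigidLib.Core
import Groth.Agent.OrbitLib.Main
import Groth.Agent.AlgSpLib.ReducedSmooth
import Groth.Prelude

/-!
Units on products of reduced connected schemes, in the category of schemes over a field.
-/

set_option autoImplicit false
set_option maxHeartbeats 1000000

noncomputable section

universe u

open CategoryTheory MonoidalCategory CartesianMonoidalCategory MonObj AlgebraicGeometry

namespace Groth.Agent.RosenUnit

variable {k : Type u} [Field k]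

/-- Pullback of functions. -/
abbrev pull {A B : Over (Spec (CommRingCat.of k))} (φ : A ⟶ B) : Γ(B.left, ⊤) →+* Γ(A.left, ⊤) := φ.left.appTop.hom

lemma pull_comp {A B C : Over (Spec (CommRingCat.of k))} (φ : A ⟶ B) (ψ : B ⟶ C) (f : Γ(C.left, ⊤)) :
    pull φ (pull ψ f) = pull (φ ≫ ψ) f := by
  show φ.left.appTop (ψ.left.appTop f) = (φ ≫ ψ).left.appTop f
  rw [Over.comp_left, Scheme.Hom.comp_appTop, ConcreteCategory.comp_apply]

lemma pull_id {A : Over (Spec (CommRingCat.of k))} (f : Γ(A.left, ⊤)) : pull (𝟙 A) f = f := by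
  simp [pull]

theorem exists_point [IsAlgClosed k] (X : Over (Spec (CommRingCat.of k))) [LocallyOfFiniteType X.hom] [Nonempty X.left] :
    Nonempty (𝟙_ (Over (Spec (CommRingCat.of k))) ⟶ X) := by
  obtain ⟨y, -⟩ := OrbitLib.exists_rational_point (X := X) isClosed_univ Set.univ_nonempty
  exact ⟨y⟩

theorem isReduced_of_smooth (G : Over (Spec (CommRingCat.of k))) [Smooth G.hom] : IsReduced G.left := AlgSpLib.isReduced_of_smooth G.hom

variable [IsAlgClosed k] {X Y : Over (Spec (CommRingCat.of k))} [LocallyOfFiniteType X.hom] [LocallyOfFiniteType Y.hom]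
  [IsReduced X.left] [IsReduced Y.left] [PreconnectedSpace X.left] [PreconnectedSpace Y.left]

theorem eq_one_of_axes (x₀ : 𝟙_ (Over (Spec (CommRingCat.of k))) ⟶ X) (y₀ : 𝟙_ (Over (Spec (CommRingCat.of k))) ⟶ Y) {g : Γ((X ⊗ Y).left, ⊤)} (hg : IsUnit g)
    (h₁ : pull (lift (𝟙 X) (toUnit X ≫ y₀)) g = 1) (h₂ : pull (lift (toUnit Y ≫ x₀) (𝟙 Y)) g = 1) : g = 1 := by
  refine UnitRigidLib.eq_one_of_axes (pX := X.hom) (pY := Y.hom) (eX := x₀.left) (Over.w x₀) (eY := y₀.left)
    (Over.w y₀) (g := (g : Γ(Limits.pullback X.hom Y.hom, ⊤))) hg ?_ ?_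
  · have e : (lift (𝟙 X) (toUnit X ≫ y₀)).left = Limits.pullback.lift (𝟙 X.left) (X.hom ≫ y₀.left)
        (by rw [Category.id_comp, Category.assoc, Over.w y₀]; exact (Category.comp_id _).symm) := by
      apply Limits.pullback.hom_ext <;> simp [Over.lift_left]
    rw [← e]
    exact h₁
  · have e : (lift (toUnit Y ≫ x₀) (𝟙 Y)).left = Limits.pullback.lift (Y.hom ≫ x₀.left) (𝟙 Y.left)
        (by rw [Category.id_comp, Category.assoc, Over.w x₀]; exact Category.comp_id _) := by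
      apply Limits.pullback.hom_ext <;> simp [Over.lift_left]
    rw [← e]
    exact h₂

/-- A unit on a product is the product of its restrictions to the axes, up to its value at the base point. -/
theorem split (x₀ : 𝟙_ (Over (Spec (CommRingCat.of k))) ⟶ X) (y₀ : 𝟙_ (Over (Spec (CommRingCat.of k))) ⟶ Y) {f : Γ((X ⊗ Y).left, ⊤)} (hf : IsUnit f) :
    f * pull (toUnit (X ⊗ Y)) (pull (lift x₀ y₀) f) =
      pull (fst X Y) (pull (lift (𝟙 X) (toUnit X ≫ y₀)) f) *
        pull (snd X Y) (pull (lift (toUnit Y ≫ x₀) (𝟙 Y)) f) := by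
  have hu : IsUnit (pull (fst X Y) (pull (lift (𝟙 X) (toUnit X ≫ y₀)) f) *
      pull (snd X Y) (pull (lift (toUnit Y ≫ x₀) (𝟙 Y)) f)) :=
    ((hf.map _).map _).mul ((hf.map _).map _)
  obtain ⟨w, hw⟩ := hu
  rw [← hw]
  have key : f * pull (toUnit (X ⊗ Y)) (pull (lift x₀ y₀) f) * ((w⁻¹ : Γ((X ⊗ Y).left, ⊤)ˣ) : Γ((X ⊗ Y).left, ⊤)) = 1 := by
    refine eq_one_of_axes x₀ y₀ ((hf.mul ((hf.map _).map _)).mul (Units.isUnit _)) ?_ ?_
    · rw [map_mul]
      have e : pull (lift (𝟙 X) (toUnit X ≫ y₀)) (f * pull (toUnit (X ⊗ Y)) (pull (lift x₀ y₀) f)) =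
          pull (lift (𝟙 X) (toUnit X ≫ y₀)) (w : Γ((X ⊗ Y).left, ⊤)) := by
        rw [hw, map_mul, map_mul, pull_comp _ (fst X Y), lift_fst, pull_id, pull_comp _ (snd X Y), lift_snd,
          pull_comp _ (toUnit (X ⊗ Y)), toUnit_unique (lift (𝟙 X) (toUnit X ≫ y₀) ≫ toUnit (X ⊗ Y)) (toUnit X),
          pull_comp (toUnit X) (lift x₀ y₀), pull_comp (toUnit X ≫ y₀), comp_lift, comp_lift, Category.comp_id,
          ← Category.assoc, toUnit_unique ((toUnit X ≫ y₀) ≫ toUnit Y) (toUnit X)]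
      rw [e, ← map_mul, Units.mul_inv, map_one]
    · rw [map_mul]
      have e : pull (lift (toUnit Y ≫ x₀) (𝟙 Y)) (f * pull (toUnit (X ⊗ Y)) (pull (lift x₀ y₀) f)) =
          pull (lift (toUnit Y ≫ x₀) (𝟙 Y)) (w : Γ((X ⊗ Y).left, ⊤)) := by
        rw [hw, map_mul, map_mul, pull_comp _ (snd X Y), lift_snd, pull_id, pull_comp _ (fst X Y), lift_fst,
          pull_comp _ (toUnit (X ⊗ Y)), toUnit_unique (lift (toUnit Y ≫ x₀) (𝟙 Y) ≫ toUnit (X ⊗ Y)) (toUnit Y),
          pull_comp (toUnit Y) (lift x₀ y₀), pull_comp (toUnit Y ≫ x₀), comp_lift, comp_lift, Category.comp_id,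
          ← Category.assoc, toUnit_unique ((toUnit Y ≫ x₀) ≫ toUnit X) (toUnit Y), mul_comm]
      rw [e, ← map_mul, Units.mul_inv, map_one]
  exact Units.mul_inv_eq_one.1 key

/-- A normalised unit of a connected group is a character. -/
theorem unit_character {G : Over (Spec (CommRingCat.of k))} [GrpObj G] [LocallyOfFiniteType G.hom] [IsReduced G.left]
    [PreconnectedSpace G.left] {f : Γ(G.left, ⊤)} (hf : IsUnit f) (he : pull η[G] f = 1) :
    pull μ[G] f = pull (fst G G) f * pull (snd G G) f := by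
  have h := split η[G] η[G] (hf.map (pull μ[G]))
  have h1 : lift (𝟙 G) (toUnit G ≫ η[G]) ≫ μ[G] = 𝟙 G := MonObj.lift_comp_one_right _ _
  have h2 : lift (toUnit G ≫ η[G]) (𝟙 G) ≫ μ[G] = 𝟙 G := MonObj.lift_comp_one_left _ _
  have h3 : lift η[G] η[G] ≫ μ[G] = η[G] := by
    have := MonObj.lift_comp_one_right (η[G]) (𝟙 (𝟙_ (Over (Spec (CommRingCat.of k)))))
    rwa [Category.id_comp] at this
  rw [pull_comp (lift η[G] η[G]), h3, he, map_one, _root_.mul_one, pull_comp (lift (𝟙 G) _), h1, pull_id,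
    pull_comp (lift _ (𝟙 G)), h2, pull_id] at h
  exact h

/-- A unit on the product of a connected group and a variety. -/
theorem split_group {G X : Over (Spec (CommRingCat.of k))} [GrpObj G] [LocallyOfFiniteType G.hom] [IsReduced G.left]
    [PreconnectedSpace G.left] [LocallyOfFiniteType X.hom] [IsReduced X.left] [PreconnectedSpace X.left]
    (x₀ : 𝟙_ (Over (Spec (CommRingCat.of k))) ⟶ X) {f : Γ((G ⊗ X).left, ⊤)} (hf : IsUnit f) :
    ∃ χ : Γ(G.left, ⊤), IsUnit χ ∧ pull η[G] χ = 1 ∧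
      pull μ[G] χ = pull (fst G G) χ * pull (snd G G) χ ∧
      f = pull (fst G X) χ * pull (snd G X) (pull (lift (toUnit X ≫ η[G]) (𝟙 X)) f) := by
  obtain ⟨c, hc⟩ := hf.map (pull (lift η[G] x₀))
  let g := pull (lift (𝟙 G) (toUnit G ≫ x₀)) f
  let χ := g * pull (toUnit G) ((c⁻¹ : Γ((𝟙_ (Over (Spec (CommRingCat.of k)))).left, ⊤)ˣ) : Γ((𝟙_ (Over (Spec (CommRingCat.of k)))).left, ⊤))
  have hχ : IsUnit χ := (hf.map _).mul ((Units.isUnit _).map _)
  have hχ1 : pull η[G] χ = 1 := by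
    rw [map_mul, pull_comp η[G] (toUnit G), pull_comp η[G], comp_lift, Category.comp_id, ← Category.assoc,
      toUnit_unique (η[G] ≫ toUnit G) (𝟙 _), Category.id_comp, pull_id, ← hc, Units.mul_inv]
  refine ⟨χ, hχ, hχ1, unit_character hχ hχ1, ?_⟩
  have h := split η[G] x₀ hf
  rw [← hc] at h
  rw [map_mul, pull_comp (fst G X) (toUnit G), toUnit_unique (fst G X ≫ toUnit G) (toUnit (G ⊗ X)), mul_right_comm,
    ← h, _root_.mul_assoc, ← map_mul (pull (toUnit (G ⊗ X))), Units.mul_inv, map_one, _root_.mul_one]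

end Groth.Agent.RosenUnit
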